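import Mathlib
import Groth.Prelude.Def_EGA41

/-!
The structure of an algebra with a `p`-basis: `B = A'[X]/(X_i^p - c_i)`.
-/

set_option autoImplicit false
universe u v w
open MvPolynomial

namespace Groth.Agent.PBasisLib

variable {R B : Type u} [CommRing R] [CommRing B] [Algebra R B] {ι : Type u}

theorem pMonomial_mem_adjoin (x : ι → B) (e : ι →₀ ℕ) :
    EGA41.pMonomial x e ∈ Algebra.adjoin R (Set.range x) :=
  Subalgebra.prod_mem _ fun i _ => pow_mem (Algebra.subset_adjoin (Set.mem_range_self i)) _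

theorem adjoin_eq_top_of_span {p : ℕ} (x : ι → B)
    (hgen : Submodule.span R (Set.range fun e : {e : ι →₀ ℕ // ∀ i, e i < p} => EGA41.pMonomial x e.1) = ⊤) :
    Algebra.adjoin R (Set.range x) = ⊤ :=
  eq_top_iff.2 fun b _ => by
    have hb : b ∈ Submodule.span R (Set.range fun e : {e : ι →₀ ℕ // ∀ i, e i < p} => EGA41.pMonomial x e.1) := by
      rw [hgen]; trivial
    exact (Submodule.span_le (p := Subalgebra.toSubmodule (Algebra.adjoin R (Set.range x)))).2
      (by rintro _ ⟨e, rfl⟩; exact pMonomial_mem_adjoin x e.1) hb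

/-- The quotient `R[X]/(X_i^p - c_i)` is spanned by reduced monomials. -/
theorem span_reduced_eq_top {p : ℕ} (hp : 0 < p) (c : ι → R) :
    Submodule.span R (Set.range fun e : {e : ι →₀ ℕ // ∀ i, e i < p} =>
      Ideal.Quotient.mk (Ideal.span (Set.range fun i => X i ^ p - C (c i))) (monomial e.1 1)) = ⊤ := by
  classical
  set I := Ideal.span (Set.range fun i => X i ^ p - C (c i))
  rw [eq_top_iff]
  rintro q -
  obtain ⟨q, rfl⟩ := Ideal.Quotient.mk_surjective q
  induction q using MvPolynomial.induction_on' with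
  | add a b ha hb => rw [map_add]; exact add_mem ha hb
  | monomial e r =>
    have hX : ∀ i, Ideal.Quotient.mk I (X i) ^ p = algebraMap R _ (c i) := fun i => by
      rw [← map_pow]
      exact Ideal.Quotient.eq.2 (Ideal.subset_span ⟨i, rfl⟩)
    let e' : {e : ι →₀ ℕ // ∀ i, e i < p} :=
      ⟨e.mapRange (· % p) (Nat.zero_mod p), fun i => by simpa using Nat.mod_lt _ hp⟩
    have hmon : ∀ f : ι →₀ ℕ, Ideal.Quotient.mk I (monomial f 1) = f.prod fun i n => Ideal.Quotient.mk I (X i) ^ n := by
      intro f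
      rw [MvPolynomial.monomial_eq, C_1, one_mul, Finsupp.prod, map_prod]
      simp only [map_pow]
      rfl
    have hsmul : ∀ (r : R) (z : MvPolynomial ι R ⧸ I), r • z = algebraMap R (MvPolynomial ι R ⧸ I) r * z := fun r z => by
      obtain ⟨z, rfl⟩ := Ideal.Quotient.mk_surjective z
      show Ideal.Quotient.mk I (r • z) = Ideal.Quotient.mk I (algebraMap R _ r) * Ideal.Quotient.mk I z
      rw [← map_mul, ← Algebra.smul_def]
    have hkey : Ideal.Quotient.mk I (monomial e r) =
        (r * ∏ i ∈ e.support, c i ^ (e i / p)) • Ideal.Quotient.mk I (monomial e'.1 1) := by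
      rw [show monomial e r = C r * monomial e 1 by rw [C_mul_monomial, mul_one], map_mul, hmon, hmon, hsmul,
        map_mul, map_prod, mul_assoc]
      congr 1
      rw [Finsupp.prod_of_support_subset (s := e.support) (f := e'.1) (fun i hi => by
          simp only [e', Finsupp.mem_support_iff, Finsupp.mapRange_apply] at hi ⊢
          intro h0; exact hi (by rw [h0, Nat.zero_mod])) _ (fun i _ => pow_zero _),
        Finsupp.prod, ← Finset.prod_mul_distrib]
      refine Finset.prod_congr rfl fun i _ => ?_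
      rw [map_pow, ← hX i, ← pow_mul, ← pow_add]
      simp only [e', Finsupp.mapRange_apply]
      rw [Nat.div_add_mod]
    rw [hkey]
    exact Submodule.smul_mem _ _ (Submodule.subset_span ⟨e', rfl⟩)

/-- Universal property of an algebra with a `p`-basis. -/
theorem existsUnique_lift {p : ℕ} (hp : 0 < p) (x : ι → B) (c : ι → R)
    (hind : LinearIndependent R (fun e : {e : ι →₀ ℕ // ∀ i, e i < p} => EGA41.pMonomial x e.1))
    (hgen : Submodule.span R (Set.range fun e : {e : ι →₀ ℕ // ∀ i, e i < p} => EGA41.pMonomial x e.1) = ⊤)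
    (hc : ∀ i, algebraMap R B (c i) = x i ^ p)
    {E : Type v} [CommRing E] [Algebra R E] (z : ι → E) (hz : ∀ i, z i ^ p = algebraMap R E (c i)) :
    ∃! v : B →ₐ[R] E, ∀ i, v (x i) = z i := by
  classical
  let I := Ideal.span (Set.range fun i => X i ^ p - C (c i))
  let φ : (MvPolynomial ι R ⧸ I) →ₐ[R] B := Ideal.Quotient.liftₐ I (aeval x) fun a ha => by
    have hle : I ≤ RingHom.ker (aeval (R := R) x) := Ideal.span_le.2 (by rintro _ ⟨i, rfl⟩; simp [hc])
    exact hle ha
  let ψ : (MvPolynomial ι R ⧸ I) →ₐ[R] E := Ideal.Quotient.liftₐ I (aeval z) fun a ha => by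
    have hle : I ≤ RingHom.ker (aeval (R := R) z) := Ideal.span_le.2 (by rintro _ ⟨i, rfl⟩; simp [hz])
    exact hle ha
  have hφe : ∀ e : {e : ι →₀ ℕ // ∀ i, e i < p},
      φ (Ideal.Quotient.mk I (monomial e.1 1)) = EGA41.pMonomial x e.1 := fun e => by
    show aeval x (monomial e.1 1) = _
    rw [aeval_monomial, map_one, one_mul]; rfl
  let L := Finsupp.linearCombination R (fun e : {e : ι →₀ ℕ // ∀ i, e i < p} => Ideal.Quotient.mk I (monomial e.1 1))
  have hL : Function.Surjective L := by
    rw [← LinearMap.range_eq_top, Finsupp.range_linearCombination]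
    exact span_reduced_eq_top hp c
  have hcomp : φ.toLinearMap ∘ₗ L = Finsupp.linearCombination R (fun e : {e : ι →₀ ℕ // ∀ i, e i < p} => EGA41.pMonomial x e.1) :=
    Finsupp.lhom_ext fun e r => by simp [L, hφe]
  have hφ : Function.Bijective φ := by
    refine ⟨fun a b h => ?_, fun b => ?_⟩
    · obtain ⟨a, rfl⟩ := hL a
      obtain ⟨b, rfl⟩ := hL b
      congr 1
      apply linearIndependent_iff_injective_finsuppLinearCombination.1 hind
      rw [← hcomp]; exact h
    · have hb : b ∈ LinearMap.range (Finsupp.linearCombination R (fun e : {e : ι →₀ ℕ // ∀ i, e i < p} => EGA41.pMonomial x e.1)) := by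
        rw [Finsupp.range_linearCombination, hgen]; trivial
      obtain ⟨l, hl⟩ := hb
      rw [← hcomp] at hl
      exact ⟨_, hl⟩
  let e := AlgEquiv.ofBijective φ hφ
  refine ⟨ψ.comp e.symm.toAlgHom, fun i => ?_, fun v hv => ?_⟩
  · show ψ (e.symm (x i)) = z i
    rw [show e.symm (x i) = Ideal.Quotient.mk I (X i) from e.injective (by
      rw [AlgEquiv.apply_symm_apply]
      show x i = aeval x (X i)
      rw [aeval_X])]
    show aeval z (X i) = z i
    rw [aeval_X]
  · refine AlgHom.ext_of_adjoin_eq_top (adjoin_eq_top_of_span x hgen) ?_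
    rintro _ ⟨i, rfl⟩
    rw [hv]
    show z i = ψ (e.symm (x i))
    rw [show e.symm (x i) = Ideal.Quotient.mk I (X i) from e.injective (by
      rw [AlgEquiv.apply_symm_apply]
      show x i = aeval x (X i)
      rw [aeval_X])]
    exact (aeval_X _ _).symm

/-- Derivations of an algebra with a `p`-basis. -/
theorem existsUnique_derivation {p : ℕ} [CharP B p] (hp : 0 < p) (x : ι → B) (c : ι → R)
    (hind : LinearIndependent R (fun e : {e : ι →₀ ℕ // ∀ i, e i < p} => EGA41.pMonomial x e.1))
    (hgen : Submodule.span R (Set.range fun e : {e : ι →₀ ℕ // ∀ i, e i < p} => EGA41.pMonomial x e.1) = ⊤)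
    (hc : ∀ i, algebraMap R B (c i) = x i ^ p)
    {L : Type v} [AddCommGroup L] [Module B L] [Module R L] [IsScalarTower R B L]
    (D₀ : Derivation ℤ R L) (hD₀ : ∀ i, D₀ (c i) = 0) (y : ι → L) :
    ∃! D : Derivation ℤ B L, (∀ r, D (algebraMap R B r) = D₀ r) ∧ ∀ i, D (x i) = y i := by
  letI : Module Bᵐᵒᵖ L := Module.compHom L ((RingHom.id B).fromOpposite mul_comm)
  haveI : IsCentralScalar B L := ⟨fun _ _ => rfl⟩
  have hop : ∀ (b : B) (l : L), MulOpposite.op b • l = b • l := fun _ _ => rfl
  have hal : ∀ (r : R) (l : L), algebraMap R B r • l = r • l := fun r l => algebraMap_smul B r l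
  let f : R →+* TrivSqZeroExt B L :=
    { toFun := fun r => TrivSqZeroExt.inl (algebraMap R B r) + TrivSqZeroExt.inr (D₀ r)
      map_one' := TrivSqZeroExt.ext (by simp) (by simp)
      map_mul' := fun a b => TrivSqZeroExt.ext (by simp) (by
        simp only [TrivSqZeroExt.snd_mul, TrivSqZeroExt.fst_add, TrivSqZeroExt.fst_inl, TrivSqZeroExt.fst_inr,
          TrivSqZeroExt.snd_add, TrivSqZeroExt.snd_inl, TrivSqZeroExt.snd_inr, Derivation.leibniz,
          hop, hal, map_mul, add_zero, zero_add])
      map_zero' := TrivSqZeroExt.ext (by simp) (by simp)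
      map_add' := fun a b => TrivSqZeroExt.ext (by simp) (by simp) }
  letI : Algebra R (TrivSqZeroExt B L) := f.toAlgebra
  have hchar : ∀ (b : B) (l : L), (p : ℕ) • (b • l) = 0 := fun b l => by
    rw [← Nat.cast_smul_eq_nsmul B, CharP.cast_eq_zero, zero_smul]
  obtain ⟨v, hv, -⟩ := existsUnique_lift hp x c hind hgen hc
    (fun i => TrivSqZeroExt.inl (x i) + TrivSqZeroExt.inr (y i)) (fun i => by
      refine TrivSqZeroExt.ext ?_ ?_
      · simp [RingHom.algebraMap_toAlgebra, f, hc]
      · rw [TrivSqZeroExt.snd_pow]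
        simp [RingHom.algebraMap_toAlgebra, f, hD₀, hchar])
  have hfst : ∀ b, (v b).fst = b := by
    intro b
    have hb : b ∈ Algebra.adjoin R (Set.range x) := by rw [adjoin_eq_top_of_span x hgen]; trivial
    induction hb using Algebra.adjoin_induction with
    | mem z hz => obtain ⟨i, rfl⟩ := hz; simp [hv]
    | algebraMap r => rw [v.commutes]; simp [RingHom.algebraMap_toAlgebra, f]
    | add a b _ _ ha hb => simp [ha, hb]
    | mul a b _ _ ha hb => simp [ha, hb]
  let d : B →ₗ[ℤ] L := (AddMonoidHom.mk' (fun b => (v b).snd) fun a b => by simp).toIntLinearMap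
  refine ⟨Derivation.mk' d fun a b => ?_, ⟨fun r => ?_, fun i => ?_⟩, fun D ⟨hD, hDx⟩ => ?_⟩
  · show (v (a * b)).snd = a • (v b).snd + b • (v a).snd
    rw [map_mul, TrivSqZeroExt.snd_mul, hfst, hfst, hop]
  · show (v (algebraMap R B r)).snd = D₀ r
    rw [v.commutes]; simp [RingHom.algebraMap_toAlgebra, f]
  · show (v (x i)).snd = y i
    rw [hv]; simp
  · refine Derivation.ext fun b => ?_
    show D b = (v b).snd
    have hb : b ∈ Algebra.adjoin R (Set.range x) := by rw [adjoin_eq_top_of_span x hgen]; trivial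
    induction hb using Algebra.adjoin_induction with
    | mem z hz => obtain ⟨i, rfl⟩ := hz; rw [hDx, hv]; simp
    | algebraMap r => rw [hD, v.commutes]; simp [RingHom.algebraMap_toAlgebra, f]
    | add a b _ _ ha hb => simp [ha, hb]
    | mul a b _ _ ha hb =>
      rw [Derivation.leibniz, map_mul, TrivSqZeroExt.snd_mul, hfst, hfst, hop, ha, hb]

end Groth.Agent.PBasisLib
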