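import Mathlib
import Groth.Prelude.Def_EGA41
import Groth.Agent.PBasisLib.Basic

/-!
`p`-bases: Kähler differentials, lifting, generators.
-/

set_option autoImplicit false
universe u v w

open scoped TensorProduct

namespace Groth.Agent.PBasisLib

variable (p : ℕ) {A B : Type u} [CommRing A] [CommRing B] [Algebra A B] {ι : Type u}

theorem pow_mem_pPower (b : B) : b ^ p ∈ EGA41.pPowerSubalgebra p A B :=
  Algebra.subset_adjoin (Set.mem_range_self (f := fun b : B => b ^ p) b)

/-- `x i ^ p` as an element of `A[B^p]`. -/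
def powElt (x : ι → B) (i : ι) : EGA41.pPowerSubalgebra p A B := ⟨x i ^ p, pow_mem_pPower p (x i)⟩

theorem derivation_pPower_eq_zero [CharP B p] {L : Type v} [AddCommGroup L] [Module B L] [Module A L]
    [IsScalarTower A B L] (D : Derivation A B L) {b : B} (hb : b ∈ EGA41.pPowerSubalgebra p A B) : D b = 0 := by
  induction hb using Algebra.adjoin_induction with
  | mem z hz =>
    obtain ⟨c, rfl⟩ := hz
    show D (c ^ p) = 0
    rw [Derivation.leibniz_pow, ← Nat.cast_smul_eq_nsmul B, CharP.cast_eq_zero, zero_smul]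
  | algebraMap r => exact D.map_algebraMap r
  | add a b _ _ ha hb => rw [map_add, ha, hb, add_zero]
  | mul a b _ _ ha hb => rw [Derivation.leibniz, ha, hb, smul_zero, smul_zero, add_zero]

theorem derivation_eq_zero_of_adjoin_top [CharP B p] (x : ι → B)
    (hgen : Algebra.adjoin (EGA41.pPowerSubalgebra p A B) (Set.range x) = ⊤)
    {L : Type v} [AddCommGroup L] [Module B L] [Module A L] [IsScalarTower A B L] (D : Derivation A B L)
    (S : Submodule B L) (hS : ∀ i, D (x i) ∈ S) (b : B) : D b ∈ S := by
  have hb : b ∈ Algebra.adjoin (EGA41.pPowerSubalgebra p A B) (Set.range x) := by rw [hgen]; trivial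
  induction hb using Algebra.adjoin_induction with
  | mem z hz => obtain ⟨i, rfl⟩ := hz; exact hS i
  | algebraMap r => rw [derivation_pPower_eq_zero p D (b := algebraMap (EGA41.pPowerSubalgebra p A B) B r) r.2]; exact S.zero_mem
  | add a b _ _ ha hb => rw [map_add]; exact S.add_mem ha hb
  | mul a b _ _ ha hb => rw [Derivation.leibniz]; exact S.add_mem (S.smul_mem _ hb) (S.smul_mem _ ha)

/-- A derivation with prescribed values on a `p`-basis. -/
theorem exists_derivation_of_pBasis [Fact p.Prime] [CharP B p] (x : ι → B) (hx : EGA41.IsPBasis p A x)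
    {L : Type v} [AddCommGroup L] [Module B L] [Module A L] [IsScalarTower A B L] (y : ι → L) :
    ∃ D : Derivation A B L, ∀ i, D (x i) = y i := by
  obtain ⟨D, ⟨hD, hDx⟩, -⟩ := existsUnique_derivation (R := EGA41.pPowerSubalgebra p A B) (p := p)
    (Fact.out : p.Prime).pos x (powElt p x) hx.1 hx.2 (fun i => rfl) (L := L) 0 (fun i => rfl) y
  have hA : ∀ a : A, D (algebraMap A B a) = 0 := fun a =>
    hD ⟨algebraMap A B a, Subalgebra.algebraMap_mem _ a⟩
  refine ⟨{ toFun := D, map_add' := D.map_add, map_smul' := fun a b => ?_,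
            map_one_eq_zero' := ?_, leibniz' := D.leibniz }, hDx⟩
  · show D (a • b) = a • D b
    rw [Algebra.smul_def, Derivation.leibniz, hA, smul_zero, add_zero, algebraMap_smul]
  · exact D.map_one_eq_zero

theorem exists_basis_kaehler [Fact p.Prime] [CharP B p] (x : ι → B) (hx : EGA41.IsPBasis p A x) :
    ∃ b : Module.Basis ι B (Ω[B⁄A]), ∀ i, b i = KaehlerDifferential.D A B (x i) := by
  classical
  obtain ⟨D, hD⟩ := exists_derivation_of_pBasis p x hx (fun i => Finsupp.single i (1 : B))
  let φ := D.liftKaehlerDifferential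
  let ψ : (ι →₀ B) →ₗ[B] Ω[B⁄A] := Finsupp.linearCombination B fun i => KaehlerDifferential.D A B (x i)
  have h1 : φ ∘ₗ ψ = LinearMap.id := Finsupp.lhom_ext fun i b => by simp [φ, ψ, hD]
  have h2 : Function.Surjective ψ := by
    rw [← LinearMap.range_eq_top, eq_top_iff, ← KaehlerDifferential.span_range_derivation, Submodule.span_le]
    rintro _ ⟨b, rfl⟩
    exact derivation_eq_zero_of_adjoin_top p x (adjoin_eq_top_of_span x hx.2) (KaehlerDifferential.D A B) (LinearMap.range ψ)
      (fun i => LinearMap.mem_range.2 ⟨Finsupp.single i 1, by simp [ψ]⟩) b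
  refine ⟨⟨(LinearEquiv.ofBijective ψ ⟨fun a b h => ?_, h2⟩).symm⟩, fun i => ?_⟩
  · have := congrArg φ h
    rwa [← LinearMap.comp_apply, ← LinearMap.comp_apply, h1] at this
  · simp [ψ, Module.Basis.coe_ofRepr]

theorem adjoin_eq_top_iff_isPGenerating [Fact p.Prime] (x : ι → B) :
    Algebra.adjoin (EGA41.pPowerSubalgebra p A B) (Set.range x) = ⊤ ↔ EGA41.IsPGenerating p A x := by
  classical
  refine ⟨fun h => ?_, adjoin_eq_top_of_span x⟩
  rw [EGA41.IsPGenerating, eq_top_iff]
  intro b _
  have hb : b ∈ Algebra.adjoin (EGA41.pPowerSubalgebra p A B) (Set.range x) := by rw [h]; trivial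
  rw [Algebra.adjoin_range_eq_range_aeval] at hb
  obtain ⟨q, rfl⟩ := hb
  obtain ⟨l, hl⟩ : Ideal.Quotient.mk (Ideal.span (Set.range fun i => MvPolynomial.X i ^ p - MvPolynomial.C (powElt p x i))) q ∈
      LinearMap.range (Finsupp.linearCombination (EGA41.pPowerSubalgebra p A B)
        fun e : {e : ι →₀ ℕ // ∀ i, e i < p} => Ideal.Quotient.mk (Ideal.span (Set.range fun i =>
          MvPolynomial.X i ^ p - MvPolynomial.C (powElt p x i))) (MvPolynomial.monomial e.1 1)) := by
    rw [Finsupp.range_linearCombination, span_reduced_eq_top (Fact.out : p.Prime).pos]; trivial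
  let φ := Ideal.Quotient.liftₐ (Ideal.span (Set.range fun i => MvPolynomial.X i ^ p - MvPolynomial.C (powElt p x i)))
    (MvPolynomial.aeval x) fun a ha => by
      have hle : Ideal.span (Set.range fun i => MvPolynomial.X i ^ p - MvPolynomial.C (powElt p x i)) ≤
          RingHom.ker (MvPolynomial.aeval (R := EGA41.pPowerSubalgebra p A B) x) :=
        Ideal.span_le.2 (by rintro _ ⟨i, rfl⟩; simp; exact sub_self _)
      exact hle ha
  have h1 := congrArg φ.toLinearMap hl
  rw [Finsupp.apply_linearCombination] at h1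
  show MvPolynomial.aeval x q ∈ _
  rw [show MvPolynomial.aeval x q = φ.toLinearMap (Ideal.Quotient.mk _ q) from rfl, ← h1,
    Finsupp.linearCombination_apply]
  refine Submodule.sum_mem _ fun e _ => Submodule.smul_mem _ _ (Submodule.subset_span ⟨e, ?_⟩)
  show EGA41.pMonomial x e.1 = MvPolynomial.aeval x (MvPolynomial.monomial e.1 1)
  rw [MvPolynomial.aeval_monomial, map_one, one_mul]; rfl

/-- Finite algebras generated by purely inseparable elements with `Ω = 0` are trivial. -/
theorem surjective_of_kaehler_zero [Fact p.Prime] [CharP B p] [Algebra.FiniteType A B] (s : ℕ)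
    (hpow : ∀ b : B, b ^ p ^ s ∈ Set.range (algebraMap A B)) [Subsingleton (Ω[B⁄A])] :
    Function.Surjective (algebraMap A B) := by
  haveI : Algebra.IsIntegral A B := ⟨fun b => by
    obtain ⟨a, ha⟩ := hpow b
    exact ⟨Polynomial.X ^ (p ^ s) - Polynomial.C a, Polynomial.monic_X_pow_sub_C _ (pow_ne_zero _ (Fact.out : p.Prime).ne_zero),
      by simp [ha]⟩⟩
  haveI : Module.Finite A B := Algebra.IsIntegral.finite
  have hI : IsIdempotentElem (KaehlerDifferential.ideal A B) :=
    (Ideal.cotangent_subsingleton_iff _).1 (by assumption)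
  haveI : ExpChar B p := .prime Fact.out
  haveI : Subsingleton B ∨ CharP (TensorProduct A B B) p := by
    rcases subsingleton_or_nontrivial B with h | h
    · exact Or.inl h
    · haveI : Nontrivial (TensorProduct A B B) := RingHom.domain_nontrivial (Algebra.TensorProduct.lmul' A (S := B)).toRingHom
      exact Or.inr ((CharP.charP_iff_prime_eq_zero Fact.out).2 (by
        rw [← map_natCast (Algebra.TensorProduct.includeLeftRingHom : B →+* TensorProduct A B B), CharP.cast_eq_zero, map_zero]))
  rcases this with h | h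
  · exact fun b => ⟨0, Subsingleton.elim _ _⟩
  haveI : ExpChar (TensorProduct A B B) p := .prime Fact.out
  have hfg : (KaehlerDifferential.ideal A B).FG := KaehlerDifferential.ideal_fg A B
  obtain ⟨e, he, hIe⟩ := (Ideal.isIdempotentElem_iff_of_fg _ hfg).1 hI
  have hnil : KaehlerDifferential.ideal A B ≤ nilradical (TensorProduct A B B) := by
    rw [← KaehlerDifferential.span_range_eq_ideal, Ideal.span_le]
    rintro _ ⟨b, rfl⟩
    refine ⟨p ^ s, ?_⟩
    obtain ⟨a, ha⟩ := hpow b
    rw [sub_pow_char_pow, Algebra.TensorProduct.tmul_pow, Algebra.TensorProduct.tmul_pow, one_pow, ← ha,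
      Algebra.algebraMap_eq_smul_one, TensorProduct.smul_tmul, sub_self]
    exact Submodule.zero_mem _
  have he0 : e = 0 := by
    obtain ⟨n, hn⟩ := hnil (by rw [hIe]; exact Ideal.mem_span_singleton_self e)
    rcases Nat.eq_zero_or_pos n with rfl | hn0
    · exact (subsingleton_of_zero_eq_one (by simpa using hn.symm)).elim _ _
    · rw [← he.pow_succ_eq (n - 1), show n - 1 + 1 = n by omega, hn]
  have hker : KaehlerDifferential.ideal A B = ⊥ := by rw [hIe, he0]; simp
  refine (Algebra.isEpi_iff_surjective_algebraMap_of_finite).1 ((Algebra.isEpi_iff_forall_one_tmul_eq A B).2 fun b => ?_)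
  rw [← sub_eq_zero]
  have : (1 : B) ⊗ₜ[A] b - b ⊗ₜ[A] (1 : B) ∈ KaehlerDifferential.ideal A B := KaehlerDifferential.one_smul_sub_smul_one_mem_ideal A b
  rw [hker, Ideal.mem_bot] at this
  first | exact this | rw [← neg_sub, this, neg_zero]

end Groth.Agent.PBasisLib
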