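import Mathlib
import Groth.Prelude.Def_EGA41
import Groth.Agent.FieldExtLib.Frobenius
import Groth.Agent.PBasisLib.Kaehler

/-!
`p`-bases of field extensions and differentials.
-/

set_option autoImplicit false
universe u v w

namespace Groth.Agent.PBasisLib

variable (p : ℕ) {k K : Type u} [Field k] [Field K] [Algebra k K] [CharP K p] [Fact p.Prime] {ι : Type u}

/-- A subring containing all `p`-th powers is a subfield. -/
def toSubfieldOfPow (F : Subring K) (hF : ∀ b : K, b ^ p ∈ F) : Subfield K :=
  { F with
    inv_mem' := fun y hy => by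
      rcases eq_or_ne y 0 with rfl | h
      · simp
      · have h1 : y⁻¹ = y ^ (p - 1) * (y⁻¹) ^ p := by
          obtain ⟨q, hq⟩ : ∃ q, p = q + 1 := ⟨p - 1, by have := (Fact.out : p.Prime).pos; omega⟩
          rw [hq]
          simp only [Nat.add_sub_cancel, inv_pow, pow_succ]
          field_simp
        rw [h1]
        exact F.mul_mem (pow_mem hy _) (hF _) }

theorem mem_adjoin_of_forall_derivation (s : Set K) {a : K}
    (h : ∀ D : Derivation k K K, (∀ b ∈ s, D b = 0) → D a = 0) :
    a ∈ Algebra.adjoin (EGA41.pPowerSubalgebra p k K) s := by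
  by_contra ha
  let F := toSubfieldOfPow p (Algebra.adjoin (EGA41.pPowerSubalgebra p k K) s).toSubring fun b =>
    (Algebra.adjoin (EGA41.pPowerSubalgebra p k K) s).algebraMap_mem ⟨b ^ p, pow_mem_pPower p b⟩
  obtain ⟨δ, hδa, hδ⟩ := Groth.Agent.FieldExtLib.exists_derivation_of_notMem p F
    (fun b => (Algebra.adjoin (EGA41.pPowerSubalgebra p k K) s).algebraMap_mem ⟨b ^ p, pow_mem_pPower p b⟩) (a := a) ha
  have hk : ∀ c : k, δ (algebraMap k K c) = 0 := fun c =>
    hδ _ ((Algebra.adjoin (EGA41.pPowerSubalgebra p k K) s).algebraMap_mem ⟨algebraMap k K c, Subalgebra.algebraMap_mem _ c⟩)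
  let D : Derivation k K K :=
    { toFun := δ
      map_add' := δ.map_add
      map_smul' := fun c b => by
        show δ (c • b) = c • δ b
        rw [Algebra.smul_def, Derivation.leibniz, hk, smul_zero, add_zero, smul_eq_mul, Algebra.smul_def]
      map_one_eq_zero' := δ.map_one_eq_zero
      leibniz' := δ.leibniz }
  have h1 : δ a = 0 := h D fun b hb => hδ b (Algebra.subset_adjoin hb)
  rw [hδa] at h1
  exact one_ne_zero h1

theorem adjoin_eq_top_of_span_eq_top (x : ι → K)
    (h : Submodule.span K (Set.range fun i => KaehlerDifferential.D k K (x i)) = ⊤) :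
    Algebra.adjoin (EGA41.pPowerSubalgebra p k K) (Set.range x) = ⊤ := by
  refine eq_top_iff.2 fun a _ => mem_adjoin_of_forall_derivation p _ fun D hD => ?_
  have h1 : D.liftKaehlerDifferential = 0 := by
    refine LinearMap.ext_on_range h fun i => ?_
    simp [hD (x i) ⟨i, rfl⟩]
  rw [← Derivation.liftKaehlerDifferential_comp_D D a, h1, LinearMap.zero_apply]

theorem linearIndependent_D_of_pIndependent (x : ι → K) (h : EGA41.IsPIndependent p k x) :
    LinearIndependent K (fun i => KaehlerDifferential.D k K (x i)) := by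
  classical
  rw [linearIndependent_iff_notMem_span]
  intro i hi
  have hp : 1 < p := (Fact.out : p.Prime).one_lt
  have hnot : x i ∉ Algebra.adjoin (EGA41.pPowerSubalgebra p k K) (x '' {i}ᶜ) := by
    intro hmem
    have h0 : x i ∈ Algebra.adjoin (EGA41.pPowerSubalgebra p k K) (Set.range fun j : {j // j ≠ i} => x j) := by
      refine Algebra.adjoin_mono ?_ hmem
      rintro _ ⟨j, hj, rfl⟩
      exact ⟨⟨j, hj⟩, rfl⟩
    -- `x i` is then in the span of the monomials avoiding `i`
    have hgen : ∀ b ∈ Algebra.adjoin (EGA41.pPowerSubalgebra p k K) (Set.range fun j : {j // j ≠ i} => x j),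
        b ∈ Submodule.span (EGA41.pPowerSubalgebra p k K)
          ((fun e : {e : ι →₀ ℕ // ∀ l, e l < p} => EGA41.pMonomial x e.1) '' {e | e.1 i = 0}) := by
      intro b hb
      rw [Algebra.adjoin_range_eq_range_aeval] at hb
      obtain ⟨q, rfl⟩ := hb
      let I := Ideal.span (Set.range fun j : {j // j ≠ i} => MvPolynomial.X j ^ p -
        MvPolynomial.C (powElt p (A := k) (fun j : {j // j ≠ i} => x j) j))
      let φ := Ideal.Quotient.liftₐ I (MvPolynomial.aeval (R := EGA41.pPowerSubalgebra p k K) fun j : {j // j ≠ i} => x j)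
        fun a ha => by
          have hle : I ≤ RingHom.ker (MvPolynomial.aeval (R := EGA41.pPowerSubalgebra p k K) fun j : {j // j ≠ i} => x j) :=
            Ideal.span_le.2 (by rintro _ ⟨j, rfl⟩; simp; exact sub_self _)
          exact hle ha
      have hq : Ideal.Quotient.mk I q ∈ Submodule.span (EGA41.pPowerSubalgebra p k K)
          (Set.range fun e : {e : {j // j ≠ i} →₀ ℕ // ∀ l, e l < p} => Ideal.Quotient.mk I (MvPolynomial.monomial e.1 1)) := by
        rw [span_reduced_eq_top (Fact.out : p.Prime).pos]; trivial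
      have h2 := Submodule.mem_map_of_mem (f := φ.toLinearMap) hq
      rw [Submodule.map_span, ← Set.range_comp] at h2
      refine Submodule.span_mono ?_ h2
      rintro _ ⟨e, rfl⟩
      refine ⟨⟨e.1.mapDomain Subtype.val, fun l => ?_⟩, ?_, ?_⟩
      · by_cases hl : l ≠ i
        · rw [show l = ((⟨l, hl⟩ : {j // j ≠ i}) : ι) from rfl, Finsupp.mapDomain_apply Subtype.val_injective]
          exact e.2 _
        · rw [Finsupp.mapDomain_notin_range _ _ (by rintro ⟨j, rfl⟩; exact hl j.2)]
          omega
      · exact Finsupp.mapDomain_notin_range _ _ (by rintro ⟨j, hj⟩; exact j.2 hj)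
      · show EGA41.pMonomial x _ = MvPolynomial.aeval (fun j : {j // j ≠ i} => x j) (MvPolynomial.monomial e.1 1)
        rw [MvPolynomial.aeval_monomial, map_one, one_mul, EGA41.pMonomial,
          Finsupp.prod_mapDomain_index_inj Subtype.val_injective]
    let e₀ : {e : ι →₀ ℕ // ∀ l, e l < p} := ⟨Finsupp.single i 1, fun l => by
      rw [Finsupp.single_apply]; split_ifs <;> omega⟩
    have h1 := hgen _ h0
    rw [show x i = EGA41.pMonomial x e₀.1 by simp [EGA41.pMonomial, e₀]] at h1
    exact h.notMem_span_image (s := {e | e.1 i = 0}) (by simp [e₀]) h1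
  apply hnot
  refine mem_adjoin_of_forall_derivation p _ fun D hD => ?_
  rw [← Derivation.liftKaehlerDifferential_comp_D D (x i), ← LinearMap.mem_ker]
  refine (Submodule.span_le.2 ?_) hi
  rintro _ ⟨j, hj, rfl⟩
  simp [hD (x j) ⟨j, by simpa using hj, rfl⟩]

theorem pIndependent_of_linearIndependent_D (x : ι → K)
    (h : LinearIndependent K (fun i => KaehlerDifferential.D k K (x i))) : EGA41.IsPIndependent p k x := by
  classical
  have hp : p.Prime := Fact.out
  let P' := EGA41.pPowerSubalgebra p k K
  suffices H : ∀ t : Finset ι, ∀ S : Finset {e : ι →₀ ℕ // ∀ l, e l < p}, (∀ e ∈ S, e.1.support ⊆ t) →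
      ∀ c : {e : ι →₀ ℕ // ∀ l, e l < p} → P', (∑ e ∈ S, c e • EGA41.pMonomial x e.1) = 0 → ∀ e ∈ S, c e = 0 by
    rw [EGA41.IsPIndependent, linearIndependent_iff']
    intro S c hc
    exact H (S.biUnion fun e => e.1.support) S (fun e he => Finset.subset_biUnion_of_mem (fun e => e.1.support) he) c hc
  intro t
  induction t using Finset.induction_on with
  | empty =>
    intro S hS c hc e he
    have he0 : ∀ f ∈ S, f = e := fun f hf => Subtype.ext (by
      rw [Finsupp.support_eq_empty.1 (Finset.subset_empty.1 (hS f hf)),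
        Finsupp.support_eq_empty.1 (Finset.subset_empty.1 (hS e he))])
    rw [Finset.sum_eq_single_of_mem e he fun f hf hne => absurd (he0 f hf) hne,
      EGA41.pMonomial, Finsupp.support_eq_empty.1 (Finset.subset_empty.1 (hS e he)), Finsupp.prod_zero_index] at hc
    exact Subtype.ext (by simpa [Subalgebra.smul_def] using hc)
  | @insert j t hj ih =>
    intro S hS c hc
    let F := toSubfieldOfPow p (Algebra.adjoin P' (x '' (t : Set ι))).toSubring fun b =>
      (Algebra.adjoin P' (x '' (t : Set ι))).algebraMap_mem ⟨b ^ p, pow_mem_pPower p b⟩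
    have hxj : x j ∉ F := by
      intro hmem
      refine linearIndependent_iff_notMem_span.1 h j ?_
      have hmem' : x j ∈ Algebra.adjoin P' (x '' (t : Set ι)) := hmem
      clear hmem hc hS
      generalize x j = y at hmem' ⊢
      induction hmem' using Algebra.adjoin_induction with
      | mem z hz =>
        obtain ⟨l, hl, rfl⟩ := hz
        exact Submodule.subset_span ⟨l, by
          simp only [Set.mem_sdiff, Set.mem_univ, Set.mem_singleton_iff, true_and]
          rintro rfl; exact hj hl, rfl⟩
      | algebraMap r =>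
        rw [derivation_pPower_eq_zero p (KaehlerDifferential.D k K) (b := algebraMap P' K r) r.2]
        exact Submodule.zero_mem _
      | add a b _ _ ha hb => rw [map_add]; exact Submodule.add_mem _ ha hb
      | mul a b _ _ ha hb =>
        rw [Derivation.leibniz]; exact Submodule.add_mem _ (Submodule.smul_mem _ _ hb) (Submodule.smul_mem _ _ ha)
    have hirr : Irreducible (Polynomial.X ^ p - Polynomial.C (⟨x j ^ p,
        (Algebra.adjoin P' (x '' (t : Set ι))).algebraMap_mem ⟨x j ^ p, pow_mem_pPower p (x j)⟩⟩ : F)) := by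
      refine X_pow_sub_C_irreducible_of_prime hp fun b hb => hxj ?_
      have h1 : (b : K) ^ p = x j ^ p := by simpa using congrArg Subtype.val hb
      rw [← frobenius_inj K p (by simpa [frobenius_def] using h1 : frobenius K p b = frobenius K p (x j))]
      exact b.2
    have hmonF : ∀ e : {e : ι →₀ ℕ // ∀ l, e l < p}, e.1.support ⊆ insert j t →
        EGA41.pMonomial x (e.1.erase j) ∈ F := by
      intro e he
      refine Subalgebra.prod_mem _ fun l hl => pow_mem (Algebra.subset_adjoin (Set.mem_image_of_mem x ?_)) _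
      rw [Finsupp.support_erase, Finset.mem_erase] at hl
      exact Finset.mem_of_mem_insert_of_ne (he hl.2) hl.1
    let coef : ℕ → F := fun n => ⟨∑ e ∈ S.filter (fun e => e.1 j = n), c e • EGA41.pMonomial x (e.1.erase j),
      Subring.sum_mem _ fun e he => (Algebra.adjoin P' (x '' (t : Set ι))).smul_mem (hmonF e (hS e (Finset.mem_filter.1 he).1)) _⟩
    let q : Polynomial F := ∑ n ∈ Finset.range p, Polynomial.C (coef n) * Polynomial.X ^ n
    have hq0 : Polynomial.aeval (x j) q = 0 := by
      rw [← hc, ← Finset.sum_fiberwise_of_maps_to (g := fun e : {e : ι →₀ ℕ // ∀ l, e l < p} => e.1 j)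
        (t := Finset.range p) (fun e _ => Finset.mem_range.2 (e.2 j))]
      simp only [q, map_sum, map_mul, Polynomial.aeval_C, Polynomial.aeval_X_pow]
      refine Finset.sum_congr rfl fun n _ => ?_
      show (∑ e ∈ S.filter (fun e => e.1 j = n), c e • EGA41.pMonomial x (e.1.erase j)) * x j ^ n = _
      rw [Finset.sum_mul]
      refine Finset.sum_congr rfl fun e he => ?_
      rw [smul_mul_assoc, EGA41.pMonomial, EGA41.pMonomial, ← (Finset.mem_filter.1 he).2, mul_comm]
      congr 1
      exact Finsupp.mul_prod_erase' e.1 j _ fun _ => pow_zero _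
    have hq : q = 0 := by
      by_contra hne
      have h1 := Polynomial.natDegree_le_of_dvd (minpoly.dvd F (x j) hq0) hne
      rw [← minpoly.eq_of_irreducible_of_monic hirr (x := x j) (by simp; exact sub_self _)
        (Polynomial.monic_X_pow_sub_C _ hp.ne_zero), Polynomial.natDegree_X_pow_sub_C] at h1
      have h2 : q.natDegree ≤ p - 1 := Polynomial.natDegree_sum_le_of_forall_le _ _ fun n hn =>
        (Polynomial.natDegree_C_mul_X_pow_le _ _).trans (by have := Finset.mem_range.1 hn; omega)
      have := hp.pos
      omega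
    intro e he
    have hcoef : coef (e.1 j) = 0 := by
      have := congrArg (fun r => Polynomial.coeff r (e.1 j)) hq
      simpa [q, Polynomial.finsetSum_coeff, Polynomial.coeff_C_mul_X_pow, e.2 j] using this
    let er : {e : ι →₀ ℕ // ∀ l, e l < p} → {e : ι →₀ ℕ // ∀ l, e l < p} := fun f =>
      ⟨f.1.erase j, fun l => by rw [Finsupp.erase_apply]; split_ifs; exacts [hp.pos, f.2 l]⟩
    have hinj : Set.InjOn er (S.filter (fun f => f.1 j = e.1 j) : Finset _) := by
      intro f hf g hg hfg
      refine Subtype.ext (Finsupp.ext fun l => ?_)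
      rcases eq_or_ne l j with rfl | hl
      · rw [(Finset.mem_filter.1 (Finset.mem_coe.1 hf)).2, (Finset.mem_filter.1 (Finset.mem_coe.1 hg)).2]
      · have := DFunLike.congr_fun (congrArg Subtype.val hfg) l
        simpa [er, Finsupp.erase_apply, hl] using this
    let cfun : {e : ι →₀ ℕ // ∀ l, e l < p} → P' := fun f => c ⟨f.1.update j (e.1 j), fun l => by
      rw [Finsupp.update_apply]; split_ifs; exacts [e.2 j, f.2 l]⟩
    have hback : ∀ f ∈ S.filter (fun f => f.1 j = e.1 j), cfun (er f) = c f := by
      intro f hf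
      refine congrArg c (Subtype.ext (Finsupp.ext fun l => ?_))
      rcases eq_or_ne l j with rfl | hl
      · simp [er, Finsupp.update_apply, (Finset.mem_filter.1 hf).2]
      · simp [er, Finsupp.update_apply, Finsupp.erase_apply, hl]
    have h3 := ih ((S.filter (fun f => f.1 j = e.1 j)).image er) (fun f hf => by
        obtain ⟨g, hg, rfl⟩ := Finset.mem_image.1 hf
        intro l hl
        rw [show (er g).1.support = g.1.support.erase j from Finsupp.support_erase, Finset.mem_erase] at hl
        exact Finset.mem_of_mem_insert_of_ne (hS g (Finset.mem_filter.1 hg).1 hl.2) hl.1)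
      cfun (by
        rw [Finset.sum_image hinj]
        refine Eq.trans (Finset.sum_congr rfl fun f hf => ?_) (congrArg Subtype.val hcoef)
        rw [hback f hf])
      (er e) (Finset.mem_image_of_mem er (Finset.mem_filter.2 ⟨he, rfl⟩))
    rwa [hback e (Finset.mem_filter.2 ⟨he, rfl⟩)] at h3

theorem span_D_eq_top_iff (x : ι → K) :
    Submodule.span K (Set.range fun i => KaehlerDifferential.D k K (x i)) = ⊤ ↔ EGA41.IsPGenerating p k x := by
  refine ⟨fun h => (adjoin_eq_top_iff_isPGenerating p x).1 (adjoin_eq_top_of_span_eq_top p x h), fun h => ?_⟩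
  rw [eq_top_iff, ← KaehlerDifferential.span_range_derivation, Submodule.span_le]
  rintro _ ⟨b, rfl⟩
  exact derivation_eq_zero_of_adjoin_top p x (adjoin_eq_top_of_span x h) (KaehlerDifferential.D k K)
    (Submodule.span K (Set.range fun i => KaehlerDifferential.D k K (x i)))
    (fun i => Submodule.subset_span (Set.mem_range_self (f := fun i => KaehlerDifferential.D k K (x i)) i)) b

theorem pIndependent_iff (x : ι → K) :
    EGA41.IsPIndependent p k x ↔ LinearIndependent K (fun i => KaehlerDifferential.D k K (x i)) :=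
  ⟨linearIndependent_D_of_pIndependent p x, pIndependent_of_linearIndependent_D p x⟩

end Groth.Agent.PBasisLib
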