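import Mathlib
import Groth.Prelude.Def_EGA41
import Groth.Agent.PBasisLib.Kaehler

/-!
Formal smoothness of reduced algebras with a `p`-basis over a perfect ring.
-/

set_option autoImplicit false
universe u v w

namespace Groth.Agent.PBasisLib

variable (p : ℕ) [Fact p.Prime] {A B : Type u} [CommRing A] [CharP A p] [PerfectRing A p] [CommRing B]
  [Algebra A B] [CharP B p] [IsReduced B] {ι : Type u}

theorem exists_root_of_mem_pPower {r : B} (hr : r ∈ EGA41.pPowerSubalgebra p A B) : ∃ b : B, b ^ p = r := by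
  haveI : ExpChar A p := .prime Fact.out
  haveI : ExpChar B p := .prime Fact.out
  induction hr using Algebra.adjoin_induction with
  | mem z hz => obtain ⟨b, rfl⟩ := hz; exact ⟨b, rfl⟩
  | algebraMap a =>
    exact ⟨algebraMap A B ((frobeniusEquiv A p).symm a), by rw [← map_pow, frobeniusEquiv_symm_pow_p]⟩
  | add a b _ _ ha hb =>
    obtain ⟨c, rfl⟩ := ha
    obtain ⟨d, rfl⟩ := hb
    exact ⟨c + d, add_pow_char c d p⟩
  | mul a b _ _ ha hb =>
    obtain ⟨c, rfl⟩ := ha
    obtain ⟨d, rfl⟩ := hb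
    exact ⟨c * d, mul_pow c d p⟩

/-- Unique lifting along a square-zero ideal. -/
theorem existsUnique_lift_sqZero (x : ι → B) (hx : EGA41.IsPBasis p A x) {E : Type w} [CommRing E] [Algebra A E]
    (R : Ideal E) (hR : R ^ 2 = ⊥) (v : B →ₐ[A] E ⧸ R) (z : ι → E) (hz : ∀ i, Ideal.Quotient.mk R (z i) = v (x i)) :
    ∃! w : B →ₐ[A] E, (Ideal.Quotient.mkₐ A R).comp w = v ∧ ∀ i, w (x i) = z i := by
  classical
  have hp : p.Prime := Fact.out
  haveI : ExpChar A p := .prime Fact.out
  haveI : ExpChar B p := .prime Fact.out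
  have hpE : (p : E) = 0 := by rw [← map_natCast (algebraMap A E), CharP.cast_eq_zero, map_zero]
  rcases subsingleton_or_nontrivial E with hE | hE
  · haveI : Subsingleton (E ⧸ R) := (Ideal.Quotient.mk_surjective).subsingleton
    exact ⟨AlgHom.ofLinearMap 0 (Subsingleton.elim _ _) (fun _ _ => Subsingleton.elim _ _),
      ⟨AlgHom.ext fun _ => Subsingleton.elim _ _, fun _ => Subsingleton.elim _ _⟩,
      fun w _ => AlgHom.ext fun _ => Subsingleton.elim _ _⟩
  haveI : CharP E p := (CharP.charP_iff_prime_eq_zero hp).2 hpE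
  haveI : ExpChar E p := .prime hp
  have hcongr : ∀ e e' : E, Ideal.Quotient.mk R e = Ideal.Quotient.mk R e' → e ^ p = e' ^ p := by
    intro e e' h
    have h1 : (e - e') ^ p ∈ R ^ 2 := Ideal.pow_le_pow_right hp.two_le (Ideal.pow_mem_pow (Ideal.Quotient.eq.1 h) p)
    rw [hR, Submodule.mem_bot, sub_pow_char, sub_eq_zero] at h1
    exact h1
  choose lift hlift using Ideal.Quotient.mk_surjective (I := R)
  choose root hroot using fun r : EGA41.pPowerSubalgebra p A B => exists_root_of_mem_pPower p r.2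
  have hroot' : ∀ r b, b ^ p = ((r : EGA41.pPowerSubalgebra p A B) : B) → root r = b := fun r b h =>
    frobenius_inj B p (by simp only [frobenius_def, hroot, h])
  let φ : EGA41.pPowerSubalgebra p A B → E := fun r => lift (v (root r)) ^ p
  have hφ : ∀ r b e, b ^ p = ((r : EGA41.pPowerSubalgebra p A B) : B) → Ideal.Quotient.mk R e = v b → φ r = e ^ p := by
    intro r b e hb he
    exact hcongr _ _ (by rw [hlift, hroot' r b hb, he])
  let φh : EGA41.pPowerSubalgebra p A B →+* E :=
    { toFun := φ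
      map_one' := by rw [hφ 1 1 1 (by simp) (by simp), one_pow]
      map_mul' := fun r s => by
        rw [hφ (r * s) (root r * root s) (lift (v (root r)) * lift (v (root s))) (by rw [mul_pow, hroot, hroot]; rfl)
          (by rw [map_mul, map_mul, hlift, hlift]), mul_pow]
      map_zero' := by rw [hφ 0 0 0 (by simp [hp.ne_zero]) (by simp), zero_pow hp.ne_zero]
      map_add' := fun r s => by
        rw [hφ (r + s) (root r + root s) (lift (v (root r)) + lift (v (root s))) (by rw [add_pow_char, hroot, hroot]; rfl)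
          (by rw [map_add, map_add, hlift, hlift]), add_pow_char] }
  letI : Algebra (EGA41.pPowerSubalgebra p A B) E := φh.toAlgebra
  have hφA : ∀ a : A, φ (algebraMap A _ a) = algebraMap A E a := fun a => by
    rw [hφ _ (algebraMap A B ((frobeniusEquiv A p).symm a)) (algebraMap A E ((frobeniusEquiv A p).symm a))
      (by rw [← map_pow, frobeniusEquiv_symm_pow_p]; rfl) (by rw [AlgHom.commutes, ← Ideal.Quotient.algebraMap_eq,
        ← IsScalarTower.algebraMap_apply]), ← map_pow, frobeniusEquiv_symm_pow_p]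
  obtain ⟨w₀, hw₀, huniq⟩ := existsUnique_lift (R := EGA41.pPowerSubalgebra p A B) hp.pos x (powElt p x) hx.1 hx.2
    (fun i => rfl) z (fun i => (hφ _ (x i) (z i) rfl (hz i)).symm)
  haveI : IsScalarTower A (EGA41.pPowerSubalgebra p A B) E := IsScalarTower.of_algebraMap_eq fun a => (hφA a).symm
  let w : B →ₐ[A] E :=
    { w₀.toRingHom with
      commutes' := fun a => by
        show w₀ (algebraMap A B a) = _
        rw [IsScalarTower.algebraMap_apply A (EGA41.pPowerSubalgebra p A B) B, w₀.commutes, ← IsScalarTower.algebraMap_apply] }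
  refine ⟨w, ⟨AlgHom.ext fun b => ?_, hw₀⟩, fun w' ⟨h1, h2⟩ => ?_⟩
  · show Ideal.Quotient.mk R (w₀ b) = v b
    have hb : b ∈ Algebra.adjoin (EGA41.pPowerSubalgebra p A B) (Set.range x) := by
      rw [adjoin_eq_top_of_span x hx.2]; trivial
    induction hb using Algebra.adjoin_induction with
    | mem y hy => obtain ⟨i, rfl⟩ := hy; rw [hw₀, hz]
    | algebraMap r =>
      rw [w₀.commutes]
      show Ideal.Quotient.mk R (φ r) = v (r : B)
      rw [map_pow, hlift, ← map_pow, hroot]
    | add a b _ _ ha hb => rw [map_add, map_add, map_add, ha, hb]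
    | mul a b _ _ ha hb => rw [map_mul, map_mul, map_mul, ha, hb]
  · have hR' : ∀ r : EGA41.pPowerSubalgebra p A B, w' (r : B) = φ r := fun r => by
      rw [← hroot r, map_pow]
      exact hcongr _ _ (by rw [hlift]; exact AlgHom.congr_fun h1 (root r))
    let w'₀ : B →ₐ[EGA41.pPowerSubalgebra p A B] E := { w'.toRingHom with commutes' := hR' }
    have h3 := huniq w'₀ h2
    exact AlgHom.ext fun b => AlgHom.congr_fun h3 b

theorem existsUnique_lift_nilpotent (x : ι → B) (hx : EGA41.IsPBasis p A x) {E : Type u} [CommRing E] [Algebra A E]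
    (R : Ideal E) (hR : IsNilpotent R) (v : B →ₐ[A] E ⧸ R) (z : ι → E) (hz : ∀ i, Ideal.Quotient.mk R (z i) = v (x i)) :
    ∃! w : B →ₐ[A] E, (Ideal.Quotient.mkₐ A R).comp w = v ∧ ∀ i, w (x i) = z i := by
  suffices H : ∀ [Algebra A E] (v : B →ₐ[A] E ⧸ R) (z : ι → E), (∀ i, Ideal.Quotient.mk R (z i) = v (x i)) →
      ∃! w : B →ₐ[A] E, (Ideal.Quotient.mkₐ A R).comp w = v ∧ ∀ i, w (x i) = z i from H v z hz
  clear hz z v
  intro alg
  revert alg
  apply Ideal.IsNilpotent.induction_on (P := fun S _ I => ∀ [Algebra A S] (v : B →ₐ[A] S ⧸ I) (z : ι → S),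
    (∀ i, Ideal.Quotient.mk I (z i) = v (x i)) →
      ∃! w : B →ₐ[A] S, (Ideal.Quotient.mkₐ A I).comp w = v ∧ ∀ i, w (x i) = z i) R hR
  · intro S _ I hI _ v z hz
    exact existsUnique_lift_sqZero p x hx I hI v z hz
  · intro S _ I J hIJ hI hJ _ v z hz
    let e := DoubleQuot.quotQuotEquivQuotOfLEₐ A hIJ
    obtain ⟨w₁, ⟨hw₁, hw₁z⟩, hu₁⟩ := hJ (e.symm.toAlgHom.comp v) (fun i => Ideal.Quotient.mk I (z i)) (fun i => by
      show _ = e.symm (v (x i))
      rw [← hz i]; rfl)
    obtain ⟨w, ⟨hw, hwz⟩, hu⟩ := hI w₁ z (fun i => (hw₁z i).symm)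
    refine ⟨w, ⟨AlgHom.ext fun b => ?_, hwz⟩, fun w' ⟨h1, h2⟩ => hu w' ⟨?_, h2⟩⟩
    · show Ideal.Quotient.mk J (w b) = v b
      have h3 : Ideal.Quotient.mk I (w b) = w₁ b := AlgHom.congr_fun hw b
      have h4 : Ideal.Quotient.mk (J.map (Ideal.Quotient.mk I)) (w₁ b) = e.symm (v b) := AlgHom.congr_fun hw₁ b
      rw [← h3] at h4
      have h5 := congrArg e h4
      rw [AlgEquiv.apply_symm_apply] at h5
      exact h5
    · refine hu₁ ((Ideal.Quotient.mkₐ A I).comp w') ⟨AlgHom.ext fun b => ?_, fun i => ?_⟩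
      · show Ideal.Quotient.mk (J.map (Ideal.Quotient.mk I)) (Ideal.Quotient.mk I (w' b)) = e.symm (v b)
        rw [← AlgHom.congr_fun h1 b]; rfl
      · show Ideal.Quotient.mk I (w' (x i)) = _
        rw [h2]

end Groth.Agent.PBasisLib
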